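import Groth.Agent.Krr.H447.TildePerf
import Groth.Agent.Cohder.RelPCGraph
import Groth.Agent.Flat2H.PerfMor
import Groth.Agent.PerfA.RoofAbs
import Groth.Prelude.Def_MoreMor

/-!
# Direct images of perfect objects along perfect closed immersions are perfect
-/

set_option autoImplicit false
universe u
open CategoryTheory CategoryTheory.Limits AlgebraicGeometry
attribute [local instance] HasDerivedCategory.standard

namespace Groth.Agent.Krr.H447.ClosedPerf

open Groth.Agent.Flat2H Groth.Agent.Flat2H.TorDim Groth.Agent.PerfA.PerfTri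
  Groth.Agent.Cohder.RelPCGraph

section Alg

variable {R S : Type u} [CommRing R] [CommRing S]

/-- A surjective pseudo-coherent ring map makes the target an `FP_∞` module. -/
theorem fpInf_of_pcHom [Algebra R S] (hs : Function.Surjective (algebraMap R S)) (h : PCHom R S) :
    FPInf R S := by
  let φ : MvPolynomial (Fin 0) R →ₐ[R] S := MvPolynomial.aeval (Fin.elim0)
  have hc : φ.toRingHom.comp (MvPolynomial.C : R →+* MvPolynomial (Fin 0) R) = algebraMap R S := by
    ext r; simp [φ]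
  have hφ : Function.Surjective φ := fun s => by
    obtain ⟨r, rfl⟩ := hs s
    exact ⟨MvPolynomial.C r, by simp [φ]⟩
  have h1 : PCMap φ.toRingHom := h.pcMap φ hφ
  rw [← pcMap_algebraMap_iff, ← hc]
  exact (PCMap.comp_bij_iff ⟨MvPolynomial.C_injective _ _, MvPolynomial.C_surjective _⟩).2 h1

/-- `i_* O` is perfect for a surjective perfect ring map. -/
theorem isPerfect_inD_push (φ : R →+* S) (hφ : Function.Surjective φ)
    (h : letI := φ.toAlgebra; MoreMor.IsPerfectHom R S) :
    DCoh.IsPerfect (DCoh.inD _ ((Scheme.Modules.pushforward (sp φ)).obj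
      (Coh.structureModule (Spec (CommRingCat.of S))))) := by
  obtain ⟨e⟩ := nonempty_pushIso φ hφ
  let _ := φ.toAlgebra
  obtain ⟨h1, n, hn⟩ := h
  have hn' : DRing.HasTorDimLE R n S := hn
  have h2 : FPInf R S := fpInf_of_pcHom hφ (isPseudoCoherentHom_iff.1 h1)
  let l : (R ⧸ RingHom.ker φ) ≃ₗ[R] S :=
    { (RingHom.quotientKerEquivOfSurjective hφ) with
      map_smul' := fun r x => by
        obtain ⟨y, rfl⟩ := Ideal.Quotient.mk_surjective x
        exact map_mul φ r y }
  have h3 := TildePerf.isPerfect_inD_tilde R n (R ⧸ RingHom.ker φ) ((h2.of_equiv l.symm).fpn (n + 1))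
    (Groth.Agent.Flat2H.TorDim.HasTorDimLE.of_linearEquiv l.symm hn')
  exact Groth.Agent.PerfC.PerfLocal.perf_of_iso
    ((DerivedCategory.singleFunctor _ 0).mapIso e.symm) h3

end Alg

open Groth.Agent.PerfA.PerfInd Groth.Agent.PerfA.Restrict Groth.Agent.PerfA.PerfLocal
  AlgebraicGeometry.Scheme.Modules

/-- `Ri_*` of a bounded complex of finite free modules, for a surjective perfect ring map. -/
theorem isPerfect_rpush_chart {R S : Type u} [CommRing R] [CommRing S] (φ : R →+* S)
    (hφ : Function.Surjective φ) (h : letI := φ.toAlgebra; MoreMor.IsPerfectHom R S)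
    [DCoh.HasRpush (sp φ)] (F : CochainComplex (Spec (CommRingCat.of S)).Modules ℤ) (a b : ℤ)
    (hab : DCoh.VanishesOutside F a b)
    (hF : ∀ i, ∃ n : ℕ, Nonempty (F.X i ≅ FlatMod.freeMod (Spec (CommRingCat.of S)) n)) :
    DCoh.IsPerfect ((DCoh.Rpush (sp φ)).obj (DerivedCategory.Q.obj F)) := by
  have hc : IsClosedImmersion (sp φ) := IsClosedImmersion.spec_of_surjective _ hφ
  let _ := Groth.Agent.Dcoh.DerSch.rpushCommShift (sp φ)
  have := Groth.Agent.Dcoh.DerSch.rpush_isTriangulated (sp φ)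
  let P : ObjectProperty (DCoh.D (Spec (CommRingCat.of S))) :=
    (perf (Spec (CommRingCat.of R))).inverseImage (DCoh.Rpush (sp φ))
  have hP : P.IsTriangulated := inferInstance
  change P (DerivedCategory.Q.obj F)
  refine Groth.Agent.PerfB.BoundedInd.bounded_induction P F a b hab fun i => ?_
  obtain ⟨n, ⟨e⟩⟩ := hF i
  refine P.prop_of_iso ((DerivedCategory.singleFunctor _ 0).mapIso e.symm) ?_
  refine prop_sigma P (DerivedCategory.singleFunctor _ 0) _ (fun _ => ?_)
  exact Groth.Agent.PerfC.PerfLocal.perf_of_iso (rpushInD (sp φ) _).symm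
    (isPerfect_inD_push φ hφ h)

/-- Restricting to a smaller open immersion a complex which is a bounded complex of free modules. -/
theorem exists_good_of_factor {Z W : Scheme.{u}} {E : DCoh.D Z} {U : Z.Opens} (hU : Good E U)
    (k : W ⟶ Z) [IsOpenImmersion k] (g : W ⟶ U) (hg : g ≫ U.ι = k) :
    ∃ (F : CochainComplex W.Modules ℤ) (a b : ℤ), DCoh.VanishesOutside F a b ∧
      (∀ i, ∃ n : ℕ, Nonempty (F.X i ≅ FlatMod.freeMod W n)) ∧
      Nonempty ((restrictD k).obj E ≅ DerivedCategory.Q.obj F) := by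
  obtain ⟨F, a, b, hab, hF, ⟨e⟩⟩ := hU
  have : IsOpenImmersion (g ≫ U.ι) := by rw [hg]; infer_instance
  have : IsOpenImmersion g := IsOpenImmersion.of_comp g U.ι
  refine ⟨((restrictFunctor g).mapHomologicalComplex (ComplexShape.up ℤ)).obj F, a, b,
    fun i hi => (restrictFunctor g).map_isZero (hab i hi), fun i => ?_, ⟨?_⟩⟩
  · obtain ⟨n, ⟨en⟩⟩ := hF i
    exact ⟨n, ⟨(restrictFunctor g).mapIso en ≪≫ freeModRestrict g n⟩⟩
  · exact (restrictDCongr hg).symm.app E ≪≫ (restrictDComp g U.ι).symm.app E ≪≫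
      (restrictD g).mapIso e ≪≫ restrictDQ g F

/-- **Direct images of perfect objects along perfect closed immersions are perfect.** -/
theorem isPerfect_rpush {Z X : Scheme.{u}} (i : Z ⟶ X) [IsClosedImmersion i]
    (hi : MoreMor.IsPerfectMor i) [DCoh.HasRpush i] (E : DCoh.D Z) (hE : DCoh.IsPerfect E) :
    DCoh.IsPerfect ((DCoh.Rpush i).obj E) := by
  apply Groth.Agent.PerfC.PerfLocal.perf_of_cover
  intro x
  by_cases hx : x ∈ Set.range i
  · obtain ⟨z, rfl⟩ := hx
    obtain ⟨U, hzU, hU⟩ := exists_good hE z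
    obtain ⟨W, hW, hWU⟩ := i.isClosedEmbedding.isInducing.isOpen_iff.1 U.isOpen
    have hzW : i z ∈ W := by
      have : z ∈ i ⁻¹' W := by rw [hWU]; exact hzU
      exact this
    obtain ⟨V, hV, hzV, hVW⟩ := exists_isAffineOpen_mem_and_subset (x := i z)
      (U := ⟨W, hW⟩) hzW
    have hVU : i ⁻¹ᵁ V ≤ U := by
      intro t ht
      have : t ∈ i ⁻¹' W := hVW ht
      rw [hWU] at this
      exact this
    have hV' : IsAffineOpen (i ⁻¹ᵁ V) := hV.preimage i
    let φ : Γ(X, V) →+* Γ(Z, i ⁻¹ᵁ V) := (i.appLE V (i ⁻¹ᵁ V) le_rfl).hom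
    have hφ : Function.Surjective φ := by
      change Function.Surjective (i.appLE V (i ⁻¹ᵁ V) le_rfl).hom
      rw [← Scheme.Hom.app_eq_appLE]
      exact i.app_surjective V hV
    have hp : letI := φ.toAlgebra; MoreMor.IsPerfectHom Γ(X, V) Γ(Z, i ⁻¹ᵁ V) :=
      hi (i ⁻¹ᵁ V) V hV' hV le_rfl
    have sq : IsPullback hV'.fromSpec (sp φ) i hV.fromSpec := by
      refine (IsOpenImmersion.isPullback (sp φ) hV'.fromSpec hV.fromSpec i
        (IsAffineOpen.SpecMap_appLE_fromSpec i hV hV' le_rfl).symm ?_).flip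
      rw [IsAffineOpen.opensRange_fromSpec, IsAffineOpen.opensRange_fromSpec]
    have hR : DCoh.HasRpush (sp φ) := Groth.Agent.Dcoh.DerSch.hasRpush _
    obtain ⟨e⟩ := Groth.Agent.Dcoh.DerSch.exists_rpushRestrictIso i (sp φ) hV'.fromSpec
      hV.fromSpec sq
    obtain ⟨F, a, b, hab, hF, ⟨e'⟩⟩ := exists_good_of_factor hU hV'.fromSpec
      (hV'.isoSpec.inv ≫ Z.homOfLE hVU) (by simp)
    have hy : i z ∈ Set.range hV.fromSpec := by rw [hV.range_fromSpec]; exact hzV
    obtain ⟨y, hy⟩ := hy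
    refine ⟨_, hV.fromSpec, inferInstance, y, hy, ?_⟩
    refine Groth.Agent.PerfC.PerfLocal.perf_of_iso
      (e.app E ≪≫ (DCoh.Rpush (sp φ)).mapIso e').symm ?_
    exact isPerfect_rpush_chart φ hφ hp F a b hab hF
  · let V : X.Opens := ⟨(Set.range i)ᶜ, i.isClosedEmbedding.isClosed_range.isOpen_compl⟩
    refine ⟨V, V.ι, inferInstance, ⟨x, hx⟩, rfl, ?_⟩
    apply Groth.Agent.PerfC.PerfLocal.perf_of_isZero
    apply isZero_restrict_rpush
    rw [Scheme.Opens.range_ι]
    exact Set.disjoint_left.2 fun y hy hy' => hy' hy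

end Groth.Agent.Krr.H447.ClosedPerf
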