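import Groth.Agent.Krr.H447.LeftInv
import Groth.Agent.Krr.H458.Defo

/-!
# D6: the push-forward along the section at `0` of the deformation to the normal bundle is injective
-/

set_option autoImplicit false
universe v w u
open CategoryTheory CategoryTheory.Limits AlgebraicGeometry
attribute [local instance] HasDerivedCategory.standard

namespace Groth.Agent.Krr.H447.D6

open Groth.Agent.Krr.H458.Defo Groth.Agent.Krr.H498.PushCl

variable {X Y M : Scheme.{u}} [IsNoetherian Y] (hY : ∃ L : Y.Modules, CohB1.IsAmple L)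
  (j : X ⟶ KRR.PY 1 Y) (hj : Mor2.IsRegularClosedImmersion j) (b : M ⟶ KRR.PY 1 Y)
  (hb : BlowUp.IsBlowUp b j.ker)

include hY hj hb

/-- Derived direct images of perfect complexes along `M ⟶ P^1_Y ⟶ Y` are perfect. -/
theorem pushPerf : Groth.Agent.Krr.H467.DerPush.PushPerf (b ≫ KRR.pr 1 Y) := by
  have h1 : IsProper b := by
    have := Groth.Agent.Krr.H458.ConnPn.isNoetherian_PY 1 Y
    exact isProper_b hb
  exact LeftInv.pushPerf_of_ample hY (exists_isAmple_M hY hb) _
    (PerfGeom.isPerfectMor_blowUp_pr 1 j hj b hb)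

variable {KY : Type v} {KM : Type w} [CommRing KY] [CommRing KM] {φY : SGA6.Kvb Y →+ KY}
  {φM : SGA6.Kvb M →+ KM} (g₀ : Y ⟶ M) (hg₀ : Mor2.IsRegularClosedImmersion g₀)
  (h : g₀ ≫ b ≫ KRR.pr 1 Y = 𝟙 Y) (hφY : Function.Bijective φY) (hφM : Function.Bijective φM)
  {g : KY →+ KM} (hg : KRR.IsPushCl g₀ φY φM g)

include hg₀ h hφY hφM hg

/-- **D6.** `(g₀)_K` has a left inverse. -/
theorem exists_leftInverse : ∃ q : KM →+ KY, ∀ y, q (g y) = y := by
  have h1 : IsNoetherian M := isNoetherian_M hb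
  have h2 : IsClosedImmersion g₀ := hg₀.1
  obtain ⟨L, hL⟩ := hY
  have h3 : KRR.HasEnoughLocFree M := hasEnoughLocFree_M ⟨L, hL⟩ hb
  exact LeftInv.exists_leftInverse
    (Groth.Agent.Krr.H473.QProj.hasEnoughLocFree_of_isAmple hL) h3 g₀
    (goodPush_of_regular g₀ h3 hg₀) _ (pushPerf ⟨L, hL⟩ j hj b hb) h hφY hφM hg

/-- **D6.** `(g₀)_K` is injective. -/
theorem injective : Function.Injective g := by
  obtain ⟨q, hq⟩ := exists_leftInverse hY j hj b hb g₀ hg₀ h hφY hφM hg
  exact Function.LeftInverse.injective (g := q) hq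

end Groth.Agent.Krr.H447.D6
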