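import Groth.Agent.Krr.H447.Syz
import Groth.Agent.Sga67.ClosedPush

/-!
# Dévissage of direct images along closed immersions

`rcl` is an abstract "class of a module with a finite locally free resolution" on the target.
-/

set_option autoImplicit false
universe u
open CategoryTheory CategoryTheory.Limits AlgebraicGeometry ZeroObject

namespace Groth.Agent.Krr.H447.Devissage

open Groth.Agent.Krr.H447.Syz

/-- The properties of the class `rcl M` of a module with a finite locally free resolution. -/
structure IsRcl {Z : Scheme.{u}} (rcl : Z.Modules → SGA6.Kvb Z) : Prop where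
  eq_sum : ∀ (M : Z.Modules) (n : ℕ) (L : ChainComplex Z.Modules ℕ)
    (π : L ⟶ (ChainComplex.single₀ Z.Modules).obj M), KRR.IsLFRes M n L π →
      rcl M = ∑ k ∈ Finset.range (n + 1), (-1 : ℤ) ^ k • KRR.cl Z (L.X k)
  two_of_three : ∀ S : ShortComplex Z.Modules, S.ShortExact → KRR.HasLFRes S.X₁ →
    KRR.HasLFRes S.X₂ → KRR.HasLFRes S.X₃ ∧ rcl S.X₂ = rcl S.X₁ + rcl S.X₃

section

variable {Z : Scheme.{u}}

lemma hasLFRes_of_isFinLocFree {M : Z.Modules} (h : FlatMod.IsFinLocFree M) : KRR.HasLFRes M := by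
  refine ⟨0, (ChainComplex.single₀ Z.Modules).obj M, 𝟙 _, ?_, ?_, inferInstance⟩
  · rintro (_ | i)
    · exact h
    · exact Groth.Agent.Dcoh.FinLocFree.isFinLocFree_of_isZero
        (HomologicalComplex.isZero_single_obj_X _ _ _ _ (by simp))
  · intro i hi
    exact HomologicalComplex.isZero_single_obj_X _ _ _ _ (by simpa using hi.ne')

lemma hasLFRes_of_isZero {M : Z.Modules} (h : IsZero M) : KRR.HasLFRes M :=
  hasLFRes_of_isFinLocFree (Groth.Agent.Dcoh.FinLocFree.isFinLocFree_of_isZero h)

/-- The short exact sequence `0 ⟶ 0 ⟶ M ⟶ N ⟶ 0` of an isomorphism. -/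
lemma isoSeq_shortExact {M N Q : Z.Modules} (hQ : IsZero Q) (e : M ≅ N) :
    (ShortComplex.mk (0 : Q ⟶ M) e.hom (by simp)).ShortExact :=
  { exact := (ShortComplex.exact_iff_mono _ rfl).2 (inferInstanceAs (Mono e.hom))
    mono_f := ⟨fun _ _ _ => hQ.eq_of_tgt _ _⟩
    epi_g := inferInstanceAs (Epi e.hom) }

variable {Y : Scheme.{u}} (g : Y ⟶ Z) [IsClosedImmersion g]

/-- Direct image of short exact sequences along a closed immersion. -/
lemma shortExact_map_pushforward (S : ShortComplex Y.Modules) (hS : S.ShortExact) :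
    (S.map (Scheme.Modules.pushforward g)).ShortExact := by
  have := Groth.Agent.Sga67.ClosedPush.preservesFiniteColimits_pushforward g
  exact hS.map_of_exact _

variable {rcl : Z.Modules → SGA6.Kvb Z} (hr : IsRcl rcl)

include hr

lemma IsRcl.zero {M : Z.Modules} (h : IsZero M) : rcl M = 0 := by
  have := (hr.two_of_three _ (isoSeq_shortExact h (Iso.refl M)) (hasLFRes_of_isZero h)
    (hasLFRes_of_isZero h)).2
  simpa using this

lemma IsRcl.iso {M N : Z.Modules} (e : M ≅ N) (h : KRR.HasLFRes M) :
    KRR.HasLFRes N ∧ rcl M = rcl N := by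
  have h0 : IsZero (0 : Z.Modules) := isZero_zero _
  have := hr.two_of_three _ (isoSeq_shortExact h0 e) (hasLFRes_of_isZero h0) h
  refine ⟨this.1, ?_⟩
  have h2 := this.2
  have h3 : rcl (0 : Z.Modules) = 0 := hr.zero h0
  have h4 : rcl M = rcl (0 : Z.Modules) + rcl N := h2
  rwa [h3, zero_add] at h4

/-- **Dévissage.**  If direct images of bundles along the closed immersion `g` have finite locally free
resolutions, with classes given by `b`, then so do direct images of modules with finite locally free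
resolutions. -/
theorem devissage (hg : ∀ E : Y.Modules, FlatMod.IsFinLocFree E →
      KRR.HasLFRes ((Scheme.Modules.pushforward g).obj E))
    (b : SGA6.Kvb Y →+ SGA6.Kvb Z) (hb : ∀ E : Y.Modules, FlatMod.IsFinLocFree E →
      b (KRR.cl Y E) = rcl ((Scheme.Modules.pushforward g).obj E))
    {M : Y.Modules} {n : ℕ} {L : ChainComplex Y.Modules ℕ}
    {π : L ⟶ (ChainComplex.single₀ Y.Modules).obj M} (h : KRR.IsLFRes M n L π) :
    KRR.HasLFRes ((Scheme.Modules.pushforward g).obj M) ∧
      rcl ((Scheme.Modules.pushforward g).obj M) =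
        b (∑ k ∈ Finset.range (n + 1), (-1 : ℤ) ^ k • KRR.cl Y (L.X k)) := by
  refine isLFRes_induction (fun M c => KRR.HasLFRes ((Scheme.Modules.pushforward g).obj M) ∧
      rcl ((Scheme.Modules.pushforward g).obj M) = b c) ?_ ?_ ?_ h
  · rintro M N c e ⟨h1, h2⟩
    have := hr.iso ((Scheme.Modules.pushforward g).mapIso e) h1
    exact ⟨this.1, this.2.symm.trans h2⟩
  · intro M hM
    have : IsZero ((Scheme.Modules.pushforward g).obj M) := Functor.map_isZero _ hM
    exact ⟨hasLFRes_of_isZero this, by rw [hr.zero this, map_zero]⟩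
  · rintro S hS hE c ⟨h1, h2⟩
    have h3 := hr.two_of_three _ (shortExact_map_pushforward g S hS) h1 (hg _ hE)
    refine ⟨h3.1, ?_⟩
    have h4 : rcl ((Scheme.Modules.pushforward g).obj S.X₂) =
      rcl ((Scheme.Modules.pushforward g).obj S.X₁) + rcl ((Scheme.Modules.pushforward g).obj S.X₃) :=
      h3.2
    rw [map_sub, hb _ hE, ← h2, h4]
    abel

end

end Groth.Agent.Krr.H447.Devissage
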