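import Groth.Agent.Krr.H447.ProjPerf
import Groth.Agent.Krr.H467.DerPush
import Groth.Agent.Krr.H498.PushCl
import Groth.Agent.PerfC.RpushCoh
import Groth.Agent.S1496

/-!
# A left inverse of the push-forward along a section

`p : M ⟶ Y` proper perfect with section `g₀ : Y ⟶ M`; then `(g₀)_K : K(Y) ⟶ K(M)` has the left inverse
`p_K`, hence is injective.
-/

set_option autoImplicit false
universe v w u
open CategoryTheory CategoryTheory.Limits AlgebraicGeometry
attribute [local instance] HasDerivedCategory.standard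

namespace Groth.Agent.Krr.H447.LeftInv

open Groth.Agent.Krr.H467 Groth.Agent.Krr.H498 Groth.Agent.Sga67.K0Basic
  Groth.Agent.Krr.H498.PushCl

attribute [local instance] Groth.Agent.Dcoh.DerSch.hasRpush

/-- Derived direct images of perfect complexes along proper perfect morphisms between schemes with
ample modules are perfect. -/
theorem pushPerf_of_ample {M Y : Scheme.{u}} (hY : ∃ N : Y.Modules, CohB1.IsAmple N)
    (hM : ∃ L : M.Modules, CohB1.IsAmple L) (p : M ⟶ Y) [IsProper p]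
    (hp : MoreMor.IsPerfectMor p) : DerPush.PushPerf p := by
  obtain ⟨n, i, hi, rfl⟩ := (Groth.Agent.S1496.result hY p).1.2 ⟨inferInstance, hM⟩
  intro E hE
  exact ProjPerf.isPerfect_rpush n i hp E hE

variable {Y M : Scheme.{u}}

/-- `Rp_* (g₀_* E) = E` for a section `g₀` of `p`. -/
theorem nonempty_iso (g₀ : Y ⟶ M) [IsClosedImmersion g₀] (p : M ⟶ Y) (h : g₀ ≫ p = 𝟙 Y)
    (E : Y.Modules) : Nonempty ((DCoh.Rpush p).obj (DCoh.inD M ((Scheme.Modules.pushforward g₀).obj E))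
      ≅ DCoh.inD Y E) := by
  obtain ⟨e₁⟩ := Groth.Agent.PerfC.RpushCoh.nonempty_closed g₀ E
  have hc : IsClosedImmersion (g₀ ≫ p) := by rw [h]; infer_instance
  obtain ⟨e₂⟩ := Groth.Agent.PerfC.RpushCoh.nonempty_closed (g₀ ≫ p) E
  refine ⟨(DCoh.Rpush p).mapIso e₁.symm ≪≫
    (Groth.Agent.Dcoh.DerPull.rpushComp g₀ p).app (DCoh.inD Y E) ≪≫ e₂ ≪≫
    (DerivedCategory.singleFunctor _ 0).mapIso ?_⟩
  exact (Scheme.Modules.pushforwardCongr h).app E ≪≫ (Scheme.Modules.pushforwardId Y).app E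

variable [CompactSpace Y] [QuasiSeparatedSpace Y] [CompactSpace M] [QuasiSeparatedSpace M]
  (hY : KRR.HasEnoughLocFree Y) (hM : KRR.HasEnoughLocFree M)

/-- `p_K (g₀)_K = id` on `K₀`. -/
theorem pushK_rho (g₀ : Y ⟶ M) [IsClosedImmersion g₀] (h₀ : GoodPush g₀) (p : M ⟶ Y)
    (hp : DerPush.PushPerf p) (h : g₀ ≫ p = 𝟙 Y) (x : SGA6.Kvb Y) :
    DerPush.pushK p hp (ResClass.rho hM (pushK g₀ hM h₀ x)) = ResClass.rho hY x := by
  have key : ((DerPush.pushK p hp).comp (ResClass.rho hM).toAddMonoidHom).comp (pushK g₀ hM h₀) =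
      (ResClass.rho hY).toAddMonoidHom := by
    refine hom_ext_sub fun E hE => ?_
    have h1 := pushK_cl g₀ hM h₀ hE
    have h2 := ResClass.rho_rcl hM ((Scheme.Modules.pushforward g₀).obj E)
    have h3 := ResPerf.isPerfect_of_hasLFRes (h₀ E hE)
    have h4 := DerPush.pushK_clTr p hp h3
    have h5 := ResClass.rho_cl hY hE
    obtain ⟨e⟩ := nonempty_iso g₀ p h E
    have h6 := DerPush.clTr_iso e
    change DerPush.pushK p hp (ResClass.rho hM (pushK g₀ hM h₀ (KRR.cl Y E))) =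
      ResClass.rho hY (KRR.cl Y E)
    rw [h1, h2, h4, h5, h6]
  exact DFunLike.congr_fun key x

variable {KY : Type v} {KM : Type w} [CommRing KY] [CommRing KM] {φY : SGA6.Kvb Y →+ KY}
  {φM : SGA6.Kvb M →+ KM}

include hY hM

/-- `(g₀)_K` has a left inverse. -/
theorem exists_leftInverse (g₀ : Y ⟶ M) [IsClosedImmersion g₀] (h₀ : GoodPush g₀) (p : M ⟶ Y)
    (hp : DerPush.PushPerf p) (h : g₀ ≫ p = 𝟙 Y) (hφY : Function.Bijective φY)
    (hφM : Function.Bijective φM) {g : KY →+ KM} (hg : KRR.IsPushCl g₀ φY φM g) :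
    ∃ q : KM →+ KY, ∀ y, q (g y) = y := by
  let eY : SGA6.Kvb Y ≃+ KY := AddEquiv.ofBijective φY hφY
  let eM : SGA6.Kvb M ≃+ KM := AddEquiv.ofBijective φM hφM
  refine ⟨(eY.toAddMonoidHom.comp (ResClass.rho hY).symm.toAddMonoidHom).comp
    ((DerPush.pushK p hp).comp ((ResClass.rho hM).toAddMonoidHom.comp eM.symm.toAddMonoidHom)),
    fun y => ?_⟩
  obtain ⟨x, rfl⟩ := hφY.2 y
  rw [isPushCl_apply g₀ hM φY φM h₀ hg x]
  change eY ((ResClass.rho hY).symm (DerPush.pushK p hp (ResClass.rho hM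
    (eM.symm (eM (pushK g₀ hM h₀ x)))))) = eY x
  rw [AddEquiv.symm_apply_apply, pushK_rho hY hM g₀ h₀ p hp h x, AddEquiv.symm_apply_apply]

/-- **`(g₀)_K` is injective for a section `g₀` of a proper perfect morphism.** -/
theorem injective (g₀ : Y ⟶ M) [IsClosedImmersion g₀] (h₀ : GoodPush g₀) (p : M ⟶ Y)
    (hp : DerPush.PushPerf p) (h : g₀ ≫ p = 𝟙 Y) (hφY : Function.Bijective φY)
    (hφM : Function.Bijective φM) {g : KY →+ KM} (hg : KRR.IsPushCl g₀ φY φM g) :
    Function.Injective g := by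
  obtain ⟨q, hq⟩ := exists_leftInverse hY hM g₀ h₀ p hp h hφY hφM hg
  exact Function.LeftInverse.injective (g := q) hq

end Groth.Agent.Krr.H447.LeftInv
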