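import Groth.Prelude.Def_KRR
import Groth.Agent.Flat2H.PerfMor2
import Groth.Agent.S1503
import Groth.Agent.S1508
import Groth.Agent.S1510
import Groth.Agent.S3202
import Groth.Agent.Dix.ProjProper
import Groth.Agent.Sga5.ProjSmooth

/-!
# Perfectness of the morphisms of the deformation to the normal bundle

* flat and locally of finite type over a locally Noetherian scheme implies perfect;
* the blow-up of `P^n_Y` along a regular closed immersion is perfect over `Y`;
* a morphism over `Y` from a perfect `Y`-scheme to a smooth `Y`-scheme is perfect; in particular a closed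
  immersion into `P^N_Y` of a scheme perfect over `Y` is a perfect closed immersion;
* a proper morphism with quasi-projective source factors through a closed immersion in `P^N`.
-/

set_option autoImplicit false
universe u

open CategoryTheory CategoryTheory.Limits AlgebraicGeometry

namespace Groth.Agent.Krr.H447.PerfGeom

open Groth.Agent.Flat2H.TorDimHom Groth.Agent.Flat2H.PerfMor2 Groth.Agent.Dix.ProjProper

theorem smooth_toSpec (n : ℕ) (A : Type u) [CommRing A] : Smooth (CohB1.ProjSpace.toSpec n A) := by
  have := Groth.Agent.Sga5.ProjSmooth.smooth_toSpec n A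
  exact SmoothOfRelativeDimension.smooth n _

theorem smooth_pr (n : ℕ) (Y : Scheme.{u}) : Smooth (KRR.pr n Y) :=
  MorphismProperty.of_isPullback (P := @Smooth) (isPullback_toZ n Y) (smooth_toSpec n _)

/-- Flat and locally of finite type over a locally Noetherian scheme implies perfect. -/
theorem isPerfectMor_of_flat {X Y : Scheme.{u}} (f : X ⟶ Y) [IsLocallyNoetherian Y] [Flat f]
    [LocallyOfFiniteType f] : MoreMor.IsPerfectMor f := by
  rw [isPerfectMor_iff]
  refine ⟨(Groth.Agent.S1503.result f).2 inferInstance, ?_⟩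
  rw [TMor, affineLocally_iff_forall_isAffineOpen]
  intro V hV U hU e
  exact FTD.of_flat (Flat.flat_appLE f hV hU e)

theorem isPerfectMor_pr (n : ℕ) (Y : Scheme.{u}) [IsLocallyNoetherian Y] :
    MoreMor.IsPerfectMor (KRR.pr n Y) := by
  have := smooth_pr n Y
  exact isPerfectMor_of_flat _

/-- The blow-up of `P^n_Y` along a regular closed immersion is perfect over `Y`. -/
theorem isPerfectMor_blowUp_pr (n : ℕ) {Y Z M : Scheme.{u}} [IsLocallyNoetherian Y]
    (j : Z ⟶ KRR.PY n Y) (hj : Mor2.IsRegularClosedImmersion j) (β : M ⟶ KRR.PY n Y)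
    (hβ : BlowUp.IsBlowUp β j.ker) : MoreMor.IsPerfectMor (β ≫ KRR.pr n Y) :=
  Groth.Agent.S1508.result _ _ (Groth.Agent.S3202.result j hj β hβ) (isPerfectMor_pr n Y)

/-- A `Y`-morphism from a scheme perfect over `Y` to `P^N_Y` is perfect. -/
theorem isPerfectMor_of_comp_pr {N : ℕ} {Y M : Scheme.{u}} (i : M ⟶ KRR.PY N Y)
    (h : MoreMor.IsPerfectMor (i ≫ KRR.pr N Y)) : MoreMor.IsPerfectMor i := by
  have := smooth_pr N Y
  exact Groth.Agent.S1510.result i (KRR.pr N Y) h

end Groth.Agent.Krr.H447.PerfGeom
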