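import Groth.Agent.Krr.H447.ClosedPerf
import Groth.Agent.Krr.H447.PerfGeom
import Groth.Agent.S1002
import Groth.Agent.Dcoh.DerPush2

/-!
# Derived direct images of perfect complexes along projective perfect morphisms are perfect
-/

set_option autoImplicit false
universe u
open CategoryTheory CategoryTheory.Limits AlgebraicGeometry
attribute [local instance] HasDerivedCategory.standard

namespace Groth.Agent.Krr.H447.ProjPerf

open Groth.Agent.Krr.H447.PerfGeom

theorem flat_pr (r : ℕ) (Y : Scheme.{u}) : Flat (KRR.pr r Y) := by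
  have := smooth_pr r Y
  infer_instance

theorem locallyOfFinitePresentation_pr (r : ℕ) (Y : Scheme.{u}) :
    LocallyOfFinitePresentation (KRR.pr r Y) := by
  have := smooth_pr r Y
  infer_instance

/-- `Rp_*` preserves perfect complexes for `p : P^r_Y ⟶ Y`. -/
theorem isPerfect_rpush_pr (r : ℕ) (Y : Scheme.{u}) [DCoh.HasRpush (KRR.pr r Y)]
    (E : DCoh.D (KRR.PY r Y)) (hE : DCoh.IsPerfect E) :
    DCoh.IsPerfect ((DCoh.Rpush (KRR.pr r Y)).obj E) := by
  have := flat_pr r Y
  have := locallyOfFinitePresentation_pr r Y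
  exact Groth.Agent.S1002.result (KRR.pr r Y) E hE

/-- **Derived direct images of perfect complexes along projective perfect morphisms are perfect.** -/
theorem isPerfect_rpush {X Y : Scheme.{u}} (r : ℕ) (i : X ⟶ KRR.PY r Y) [IsClosedImmersion i]
    (hf : MoreMor.IsPerfectMor (i ≫ KRR.pr r Y)) [DCoh.HasRpush (i ≫ KRR.pr r Y)]
    (E : DCoh.D X) (hE : DCoh.IsPerfect E) :
    DCoh.IsPerfect ((DCoh.Rpush (i ≫ KRR.pr r Y)).obj E) := by
  have h1 : DCoh.HasRpush i := Groth.Agent.Dcoh.DerSch.hasRpush i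
  have h2 : DCoh.HasRpush (KRR.pr r Y) := Groth.Agent.Dcoh.DerSch.hasRpush _
  have h3 := ClosedPerf.isPerfect_rpush i (isPerfectMor_of_comp_pr i hf) E hE
  exact Groth.Agent.Dcoh.LocalD.isPerfect_of_iso
    ((Groth.Agent.Dcoh.DerPull.rpushComp i (KRR.pr r Y)).app E) (isPerfect_rpush_pr r Y _ h3)

end Groth.Agent.Krr.H447.ProjPerf
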