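import Groth.Agent.Krr.H447.Devissage
import Groth.Agent.Krr.H498.PushCl

/-!
# Composition of push-forwards along closed immersions

`f : X ⟶ Y`, `g : Y ⟶ Z` closed immersions such that direct images of bundles have finite locally free
resolutions; then `(f ≫ g)_K = g_K ∘ f_K`.
-/

set_option autoImplicit false
universe v w t u
open CategoryTheory CategoryTheory.Limits AlgebraicGeometry
attribute [local instance] HasDerivedCategory.standard

namespace Groth.Agent.Krr.H447.PushComp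

open Groth.Agent.Krr.H498 Groth.Agent.Krr.H498.PushCl Groth.Agent.Krr.H447.Devissage
  Groth.Agent.Sga67.K0Basic

theorem isRcl {Z : Scheme.{u}} [CompactSpace Z] [QuasiSeparatedSpace Z]
    (hZ : KRR.HasEnoughLocFree Z) : IsRcl (ResClass.rcl hZ) where
  eq_sum _ _ _ _ h := ResClass.rcl_eq_sum hZ h
  two_of_three _ hS h1 h2 :=
    ⟨ResPerf.hasLFRes_X₃ hZ hS h1 h2, ResClass.rcl_shortExact hZ hS h1 h2
      (ResPerf.hasLFRes_X₃ hZ hS h1 h2)⟩

variable {X Y Z : Scheme.{u}} (f : X ⟶ Y) (g : Y ⟶ Z) [IsClosedImmersion f] [IsClosedImmersion g]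
  [CompactSpace Z] [QuasiSeparatedSpace Z] (hZ : KRR.HasEnoughLocFree Z)

omit [IsClosedImmersion f] in
/-- Direct images of modules with finite locally free resolutions. -/
theorem pushK_sum (hg : GoodPush g) {M : Y.Modules} {n : ℕ} {L : ChainComplex Y.Modules ℕ}
    {π : L ⟶ (ChainComplex.single₀ Y.Modules).obj M} (h : KRR.IsLFRes M n L π) :
    KRR.HasLFRes ((Scheme.Modules.pushforward g).obj M) ∧
      ResClass.rcl hZ ((Scheme.Modules.pushforward g).obj M) =
        pushK g hZ hg (∑ k ∈ Finset.range (n + 1), (-1 : ℤ) ^ k • KRR.cl Y (L.X k)) :=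
  devissage g (isRcl hZ) hg (pushK g hZ hg) (fun _ hE => pushK_cl g hZ hg hE) h

include hZ in
omit [IsClosedImmersion f] in
theorem goodPush_comp (hf : GoodPush f) (hg : GoodPush g) : GoodPush (f ≫ g) := fun F hF => by
  obtain ⟨n, L, π, h⟩ := hf F hF
  exact ((isRcl hZ).iso ((Scheme.Modules.pushforwardComp f g).app F) (pushK_sum g hZ hg h).1).1

variable [CompactSpace Y] [QuasiSeparatedSpace Y] (hY : KRR.HasEnoughLocFree Y)

omit [IsClosedImmersion f] in
theorem rcl_comp (hf : GoodPush f) (hg : GoodPush g) {F : X.Modules} (hF : FlatMod.IsFinLocFree F) :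
    ResClass.rcl hZ ((Scheme.Modules.pushforward (f ≫ g)).obj F) =
      pushK g hZ hg (ResClass.rcl hY ((Scheme.Modules.pushforward f).obj F)) := by
  obtain ⟨n, L, π, h⟩ := hf F hF
  have h1 := pushK_sum g hZ hg h
  rw [ResClass.rcl_eq_sum hY h, ← h1.2]
  exact ((isRcl hZ).iso ((Scheme.Modules.pushforwardComp f g).app F) h1.1).2.symm

/-- **Functoriality of the push-forward on `K₀` of bundles.** -/
theorem pushK_comp (hf : GoodPush f) (hg : GoodPush g) (hfg : GoodPush (f ≫ g)) :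
    pushK (f ≫ g) hZ hfg = (pushK g hZ hg).comp (pushK f hY hf) :=
  hom_ext_sub fun F hF => by
    refine (pushK_cl (f ≫ g) hZ hfg hF).trans ?_
    refine (rcl_comp f g hZ hY hf hg hF).trans ?_
    exact congrArg (pushK g hZ hg) (pushK_cl f hY hf hF).symm

include hZ hY

/-- **Functoriality of the push-forward on models.** -/
theorem isPushCl_comp {KX : Type v} {KY : Type w} {KZ : Type t} [CommRing KX] [CommRing KY]
    [CommRing KZ] {φX : SGA6.Kvb X →+ KX} {φY : SGA6.Kvb Y →+ KY} {φZ : SGA6.Kvb Z →+ KZ}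
    (hf : GoodPush f) (hg : GoodPush g) (hX : Function.Surjective φX)
    {a : KX →+ KY} (ha : KRR.IsPushCl f φX φY a) {b : KY →+ KZ} (hb : KRR.IsPushCl g φY φZ b)
    {c : KX →+ KZ} (hc : KRR.IsPushCl (f ≫ g) φX φZ c) : c = b.comp a := by
  have hfg := goodPush_comp f g hZ hf hg
  ext x
  obtain ⟨x, rfl⟩ := hX x
  rw [isPushCl_apply (f ≫ g) hZ φX φZ hfg hc x, pushK_comp f g hZ hY hf hg hfg,
    AddMonoidHom.comp_apply, AddMonoidHom.comp_apply, isPushCl_apply f hY φX φY hf ha x,
    isPushCl_apply g hZ φY φZ hg hb]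

omit [IsClosedImmersion f] in
/-- The composite of push-forwards is the push-forward along the composite. -/
theorem isPushCl_comp' {KX : Type v} {KY : Type w} {KZ : Type t} [CommRing KX] [CommRing KY]
    [CommRing KZ] {φX : SGA6.Kvb X →+ KX} {φY : SGA6.Kvb Y →+ KY} {φZ : SGA6.Kvb Z →+ KZ}
    (hf : GoodPush f) (hg : GoodPush g)
    {a : KX →+ KY} (ha : KRR.IsPushCl f φX φY a) {b : KY →+ KZ} (hb : KRR.IsPushCl g φY φZ b) :
    KRR.IsPushCl (f ≫ g) φX φZ (b.comp a) := by
  refine (isPushCl_iff (f ≫ g) hZ φX φZ (goodPush_comp f g hZ hf hg) _).2 fun F hF => ?_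
  rw [AddMonoidHom.comp_apply, (isPushCl_iff f hY φX φY hf a).1 ha F hF,
    isPushCl_apply g hZ φY φZ hg hb, rcl_comp f g hZ hY hf hg hF]

end Groth.Agent.Krr.H447.PushComp
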