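import Groth.Prelude.Def_KRR
import Groth.Agent.Cohder.KZBasic
import Groth.Agent.Dcoh.FinLocFree

/-!
# Syzygy induction for finite locally free resolutions

For a complex `L` in an abelian category, indexed by `ℕ`, exact in positive degrees, the short exact
sequences `0 ⟶ opcycles (k+1) ⟶ L_k ⟶ opcycles k ⟶ 0`; for a finite locally free resolution `L ⟶ M`
an induction principle for the pair `(M, Σ (-1)^k [L_k])`.
-/

set_option autoImplicit false
universe v u
open CategoryTheory CategoryTheory.Limits AlgebraicGeometry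

namespace Groth.Agent.Krr.H447.Syz

section Abelian

variable {A : Type u} [Category.{v} A] [Abelian A]

/-- The complex `opcycles (k+1) ⟶ L_k ⟶ opcycles k`. -/
noncomputable def syzSeq (L : ChainComplex A ℕ) (k : ℕ) : ShortComplex A :=
  ShortComplex.mk (L.fromOpcycles (k + 1) k) (L.pOpcycles k) (by
    rw [← cancel_epi (L.pOpcycles (k + 1))]
    simp)

/-- The sequence `0 ⟶ opcycles (k+1) ⟶ L_k ⟶ opcycles k ⟶ 0` is exact when `L` is exact at `k+1`. -/
lemma syzSeq_shortExact (L : ChainComplex A ℕ) (k : ℕ) (h : L.ExactAt (k + 1)) :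
    (syzSeq L k).ShortExact := by
  have h1 : Mono (L.fromOpcycles (k + 1) k) :=
    Preadditive.mono_of_isZero_kernel' _ (L.homologyIsKernel (k + 1) k (by simp))
      h.isZero_homology
  refine { exact := ?_, mono_f := h1, epi_g := inferInstanceAs (Epi (L.pOpcycles k)) }
  let φ : ShortComplex.mk (L.d (k + 1) k) (L.pOpcycles k) (by simp) ⟶ syzSeq L k :=
    { τ₁ := L.pOpcycles (k + 1), τ₂ := 𝟙 _, τ₃ := 𝟙 _,
      comm₁₂ := by simp [syzSeq], comm₂₃ := by simp [syzSeq] }
  have : Epi φ.τ₁ := inferInstanceAs (Epi (L.pOpcycles (k + 1)))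
  have : IsIso φ.τ₂ := inferInstanceAs (IsIso (𝟙 _))
  have : Mono φ.τ₃ := inferInstanceAs (Mono (𝟙 _))
  exact (ShortComplex.exact_iff_of_epi_of_isIso_of_mono φ).1
    (ShortComplex.exact_of_g_is_cokernel _ (L.opcyclesIsCokernel (k + 1) k (by simp)))

end Abelian

section Modules

variable {X : Scheme.{u}}

/-- The alternating sum of the tail. -/
noncomputable def altSum (L : ChainComplex X.Modules ℕ) (k n : ℕ) : SGA6.Kvb X :=
  ∑ j ∈ Finset.range n, (-1 : ℤ) ^ j • KRR.cl X (L.X (k + j))

lemma altSum_succ (L : ChainComplex X.Modules ℕ) (k n : ℕ) :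
    altSum L k (n + 1) = KRR.cl X (L.X k) - altSum L (k + 1) n := by
  rw [altSum, altSum, Finset.sum_range_succ', sub_eq_add_neg, ← Finset.sum_neg_distrib, add_comm]
  simp only [pow_zero, one_smul, add_zero]
  congr 1
  refine Finset.sum_congr rfl fun j _ => ?_
  rw [pow_succ, mul_neg, mul_one, neg_smul, show k + (j + 1) = k + 1 + j by lia]

/-- Exactness of a resolution in positive degrees. -/
lemma exactAt_of_isLFRes {M : X.Modules} {n : ℕ} {L : ChainComplex X.Modules ℕ}
    {π : L ⟶ (ChainComplex.single₀ X.Modules).obj M} (h : KRR.IsLFRes M n L π) (k : ℕ) :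
    L.ExactAt (k + 1) := by
  have := h.quasiIso
  exact (quasiIsoAt_iff_exactAt' (f := π) (i := k + 1)
    (HomologicalComplex.exactAt_single_obj _ _ _ _ (by simp))).1 inferInstance

/-- `opcycles 0 ≅ M` for a resolution of `M`. -/
noncomputable def opcyclesZeroIso {M : X.Modules} {n : ℕ} {L : ChainComplex X.Modules ℕ}
    {π : L ⟶ (ChainComplex.single₀ X.Modules).obj M} (h : KRR.IsLFRes M n L π) :
    L.opcycles 0 ≅ M := by
  have := h.quasiIso
  exact (L.isoHomologyι 0 0 (by simp) (L.shape _ _ (by simp))).symm ≪≫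
    (isoOfQuasiIsoAt π 0) ≪≫ HomologicalComplex.singleObjHomologySelfIso _ _ _

/-- **Syzygy induction.**  A relation `P M c` between modules and classes in `K₀` of bundles which
is invariant under isomorphism, holds for `(0, 0)` and satisfies `P K c → P M ([E] - c)` for every
short exact sequence `0 ⟶ K ⟶ E ⟶ M ⟶ 0` with `E` finite locally free, holds for
`(M, Σ_k (-1)^k [L_k])` for every finite locally free resolution `L` of `M`. -/
theorem isLFRes_induction (P : X.Modules → SGA6.Kvb X → Prop)
    (hiso : ∀ (M N : X.Modules) (c : SGA6.Kvb X), (M ≅ N) → P M c → P N c)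
    (hzero : ∀ M : X.Modules, IsZero M → P M 0)
    (hstep : ∀ (S : ShortComplex X.Modules), S.ShortExact → FlatMod.IsFinLocFree S.X₂ →
      ∀ c : SGA6.Kvb X, P S.X₁ c → P S.X₃ (KRR.cl X S.X₂ - c))
    {M : X.Modules} {n : ℕ} {L : ChainComplex X.Modules ℕ}
    {π : L ⟶ (ChainComplex.single₀ X.Modules).obj M} (h : KRR.IsLFRes M n L π) :
    P M (∑ k ∈ Finset.range (n + 1), (-1 : ℤ) ^ k • KRR.cl X (L.X k)) := by
  have key : ∀ (m k : ℕ), n < k + m → P (L.opcycles k) (altSum L k m) := by
    intro m
    induction m with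
    | zero =>
      intro k hk
      have h0 : IsZero (L.X k) := h.isZero k (by simpa using hk)
      have h1 : IsZero (L.opcycles k) := by
        rw [IsZero.iff_id_eq_zero, ← cancel_epi (L.pOpcycles k)]
        exact h0.eq_of_src _ _
      simpa [altSum] using hzero _ h1
    | succ m ih =>
      intro k hk
      rw [altSum_succ]
      exact hstep (syzSeq L k) (syzSeq_shortExact L k (exactAt_of_isLFRes h k)) (h.finLocFree k) _
        (ih (k + 1) (by lia))
  have := hiso _ _ _ (opcyclesZeroIso h) (key (n + 1) 0 (by lia))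
  simpa [altSum] using this

end Modules

end Groth.Agent.Krr.H447.Syz
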