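import Groth.Agent.PerfA.PerfTri
import Groth.Agent.PerfA.PerfInd
import Groth.Agent.PerfC.TildeProj
import Groth.Agent.PerfB.TildeExact
import Groth.Agent.Flat2H.FPInf
import Groth.Agent.Flat2H.TorDim

/-!
# The sheaf of a pseudo-coherent module of finite tor dimension is perfect
-/

set_option autoImplicit false
universe u
open CategoryTheory CategoryTheory.Limits AlgebraicGeometry
attribute [local instance] HasDerivedCategory.standard

namespace Groth.Agent.Krr.H447.TildePerf

open Groth.Agent.Flat2H Groth.Agent.Flat2H.TorDim Groth.Agent.PerfA.PerfTri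

/-- `M~` is perfect when `M` is of type `FP_{n+1}` and has tor dimension `≤ n`. -/
theorem isPerfect_inD_tilde (A : Type u) [CommRing A] (n : ℕ) : ∀ (M : Type u) [AddCommGroup M]
    [Module A M], FPn A (n + 1) M → DRing.HasTorDimLE A n M →
      DCoh.IsPerfect (DCoh.inD (Spec (CommRingCat.of A))
        ((tilde.functor (CommRingCat.of A)).obj (ModuleCat.of A M))) := by
  induction n with
  | zero =>
    intro M _ _ h1 h2
    have hflat : Module.Flat A M := hasTorDimLE_zero_iff.1 h2
    obtain ⟨k, f, hf, hk⟩ := h1
    have hfp : Module.FinitePresentation A M :=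
      Module.finitePresentation_of_surjective f hf (by
        have : Module.Finite A (LinearMap.ker f) := hk
        exact Module.Finite.iff_fg.1 this)
    have hproj : Module.Projective A M := Module.Flat.projective_of_finitePresentation
    have hfin : Module.Finite A (ModuleCat.of A M) := Module.Finite.of_surjective f hf
    have hproj' : Module.Projective A (ModuleCat.of A M) := hproj
    exact Groth.Agent.PerfA.PerfLocal.isPerfect_inD_of_isFinLocFree
      (Groth.Agent.PerfC.TildeProj.isFinLocFree_tilde A (ModuleCat.of A M))
  | succ n ih =>
    intro M _ _ h1 h2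
    obtain ⟨k, f, hf, hk⟩ := h1
    have h3 := (hasTorDimLE_succ_iff_ker f hf n).1 h2
    have h4 := ih _ hk h3
    let S : ShortComplex (ModuleCat.{u} (CommRingCat.of A)) :=
      ShortComplex.mk (X₁ := ModuleCat.of A (LinearMap.ker f)) (X₂ := ModuleCat.of A (Fin k → A))
        (X₃ := ModuleCat.of A M) (ModuleCat.ofHom (LinearMap.ker f).subtype) (ModuleCat.ofHom f) (by
        ext x; exact x.2)
    have hS : S.ShortExact :=
      shortExact_mk (LinearMap.ker f).subtype f (Submodule.subtype_injective _) hf
        (LinearMap.exact_subtype_ker_map f)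
    have hadd : ∀ R : CommRingCat.{u}, (tilde.functor R).Additive := fun R => inferInstance
    have : (tilde.functor (CommRingCat.of A)).Additive := hadd _
    have : (tilde.functor (CommRingCat.of A)).PreservesZeroMorphisms := inferInstance
    have hcol : ∀ R : CommRingCat.{u}, PreservesFiniteColimits (tilde.functor R) :=
      fun R => inferInstance
    have : PreservesFiniteColimits (tilde.functor (CommRingCat.of A)) := hcol _
    have : PreservesFiniteLimits (tilde.functor (CommRingCat.of A)) :=
      Groth.Agent.PerfB.TildeExact.preservesFiniteLimits_tilde (CommRingCat.of A)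
    have hS' := hS.map_of_exact (tilde.functor (CommRingCat.of A))
    have hE : DCoh.IsPerfect (DCoh.inD (Spec (CommRingCat.of A))
        ((tilde.functor (CommRingCat.of A)).obj (ModuleCat.of A (Fin k → A)))) := by
      have h5 : Module.Finite A (ModuleCat.of A (Fin k → A)) :=
        inferInstanceAs (Module.Finite A (Fin k → A))
      have h6 : Module.Projective A (ModuleCat.of A (Fin k → A)) :=
        inferInstanceAs (Module.Projective A (Fin k → A))
      exact Groth.Agent.PerfA.PerfLocal.isPerfect_inD_of_isFinLocFree
        (Groth.Agent.PerfC.TildeProj.isFinLocFree_tilde A (ModuleCat.of A (Fin k → A)))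
    exact Groth.Agent.PerfA.PerfInd.prop_X₃ (perf (Spec (CommRingCat.of A))) hS' h4 hE

end Groth.Agent.Krr.H447.TildePerf
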